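import Mathlib.AlgebraicGeometry.Limits
import Mathlib.AlgebraicGeometry.Morphisms.ClosedImmersion
import Mathlib.AlgebraicGeometry.Morphisms.FiniteType
import Mathlib.AlgebraicGeometry.Morphisms.Separated
import Mathlib.AlgebraicGeometry.Morphisms.QuasiCompact
import Mathlib.AlgebraicGeometry.Morphisms.Immersion

/-!
# Gluing two separated schemes along an open with closed graph
-/

set_option autoImplicit false
set_option linter.style.haveILetI false
set_option backward.isDefEq.respectTransparency false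
set_option backward.isDefEq.respectTransparency.types false

universe u

open CategoryTheory Limits AlgebraicGeometry TopologicalSpace

namespace Groth.Agent.GlueSep17

variable {Z X₁ X₂ S : Scheme.{u}} (i₁ : Z ⟶ X₁) (i₂ : Z ⟶ X₂) [IsOpenImmersion i₁] [IsOpenImmersion i₂]

instance : IsOpenImmersion (pushout.inl i₁ i₂) :=
  inferInstanceAs (IsOpenImmersion (colimit.ι (span i₁ i₂) WalkingSpan.left))

instance : IsOpenImmersion (pushout.inr i₁ i₂) :=
  inferInstanceAs (IsOpenImmersion (colimit.ι (span i₁ i₂) WalkingSpan.right))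

theorem jointly_surjective (x : (pushout i₁ i₂ : Scheme.{u})) :
    x ∈ Set.range (pushout.inl i₁ i₂) ∨ x ∈ Set.range (pushout.inr i₁ i₂) := by
  obtain ⟨i, xi, rfl⟩ := Scheme.IsLocallyDirected.ι_jointly_surjective (span i₁ i₂) x
  rcases i with _ | i
  · refine Or.inl ⟨i₁ xi, ?_⟩
    change (i₁ ≫ pushout.inl i₁ i₂) xi = _
    have e : i₁ ≫ pushout.inl i₁ i₂ = colimit.ι (span i₁ i₂) WalkingSpan.zero :=
      colimit.w (span i₁ i₂) WalkingSpan.Hom.fst
    rw [e]
    rfl
  · cases i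
    · exact Or.inl ⟨xi, rfl⟩
    · exact Or.inr ⟨xi, rfl⟩

theorem mem_range_of_eq {x₁ : X₁} {x₂ : X₂} (h : pushout.inl i₁ i₂ x₁ = pushout.inr i₁ i₂ x₂) :
    x₁ ∈ Set.range i₁ := by
  obtain ⟨k, fi, fj, x, hx, -⟩ := (Scheme.IsLocallyDirected.ι_eq_ι_iff (span i₁ i₂)
    (i := WalkingSpan.left) (j := WalkingSpan.right)).mp h
  rcases k with _ | k
  · cases fi
    exact ⟨x, hx⟩
  · cases k
    · rcases fj
    · rcases fi

/-- The overlap of the two charts is the open along which one glues. -/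
theorem exists_factor {T : Scheme.{u}} (a : T ⟶ X₁) (c : T ⟶ X₂)
    (h : a ≫ pushout.inl i₁ i₂ = c ≫ pushout.inr i₁ i₂) : ∃ k : T ⟶ Z, k ≫ i₁ = a ∧ k ≫ i₂ = c := by
  have hr : Set.range a ⊆ Set.range i₁ := by
    rintro _ ⟨t, rfl⟩
    refine mem_range_of_eq i₁ i₂ (x₂ := c t) ?_
    rw [← Scheme.Hom.comp_apply, h, Scheme.Hom.comp_apply]
  refine ⟨IsOpenImmersion.lift i₁ a hr, IsOpenImmersion.lift_fac _ _ _, ?_⟩
  rw [← cancel_mono (pushout.inr i₁ i₂), Category.assoc, ← pushout.condition, IsOpenImmersion.lift_fac_assoc, h]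

variable (g₁ : X₁ ⟶ S) (g₂ : X₂ ⟶ S) (hg : i₁ ≫ g₁ = i₂ ≫ g₂)

theorem preimage_range_diagonal {A B P T : Scheme.{u}} (q : P ⟶ S) (a : A ⟶ P) (c : B ⟶ P) (ga : A ⟶ S)
    (gb : B ⟶ S) (ha : a ≫ q = ga) (hc : c ≫ q = gb) (l : T ⟶ pullback ga gb)
    (hl : (l ≫ pullback.fst ga gb) ≫ a = (l ≫ pullback.snd ga gb) ≫ c)
    (huniv : ∀ {T' : Scheme.{u}} (u : T' ⟶ A) (v : T' ⟶ B), u ≫ a = v ≫ c →
      ∃ k : T' ⟶ T, k ≫ l ≫ pullback.fst ga gb = u ∧ k ≫ l ≫ pullback.snd ga gb = v) :
    (pullback.map ga gb q q a c (𝟙 S) (by rw [ha, Category.comp_id]) (by rw [hc, Category.comp_id])) ⁻¹'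
      Set.range (pullback.diagonal q) = Set.range l := by
  set m := pullback.map ga gb q q a c (𝟙 S) (by rw [ha, Category.comp_id]) (by rw [hc, Category.comp_id])
  refine Set.Subset.antisymm ?_ ?_
  · rintro w ⟨p, hp⟩
    obtain ⟨t, -, ht⟩ := Scheme.Pullback.exists_preimage_pullback (f := pullback.diagonal q) (g := m) p w hp
    let u := pullback.snd (pullback.diagonal q) m ≫ pullback.fst ga gb
    let v := pullback.snd (pullback.diagonal q) m ≫ pullback.snd ga gb
    have e : u ≫ a = v ≫ c := by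
      have h1 := congrArg (· ≫ pullback.fst q q) (pullback.condition (f := pullback.diagonal q) (g := m))
      have h2 := congrArg (· ≫ pullback.snd q q) (pullback.condition (f := pullback.diagonal q) (g := m))
      simp only [Category.assoc, pullback.diagonal_fst, pullback.diagonal_snd, m, pullback.lift_fst, pullback.lift_snd] at h1 h2
      simp only [u, v, Category.assoc]
      exact h1.symm.trans h2
    obtain ⟨k, hk₁, hk₂⟩ := huniv u v e
    have hkl : k ≫ l = pullback.snd (pullback.diagonal q) m := by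
      apply pullback.hom_ext
      · rw [Category.assoc]; exact hk₁
      · rw [Category.assoc]; exact hk₂
    exact ⟨k t, by rw [← Scheme.Hom.comp_apply, hkl, ht]⟩
  · rintro _ ⟨t, rfl⟩
    refine ⟨((l ≫ pullback.fst ga gb) ≫ a) t, ?_⟩
    have : ((l ≫ pullback.fst ga gb) ≫ a) ≫ pullback.diagonal q = l ≫ m := by
      apply pullback.hom_ext
      · simp [m]
      · simp only [m, Category.assoc, pullback.diagonal_snd, pullback.lift_snd, Category.comp_id]
        simpa using hl
    rw [← Scheme.Hom.comp_apply, this, Scheme.Hom.comp_apply]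

include hg in
/-- The glued scheme is separated when both pieces are and the overlap has closed graph. -/
theorem isSeparated_desc [IsSeparated g₁] [IsSeparated g₂]
    (hcl : IsClosed (Set.range (pullback.lift i₁ i₂ hg : Z ⟶ pullback g₁ g₂))) :
    IsSeparated (pushout.desc g₁ g₂ hg) := by
  set q := pushout.desc g₁ g₂ hg
  set o₁ := pushout.inl i₁ i₂
  set o₂ := pushout.inr i₁ i₂
  have h₁ : o₁ ≫ q = g₁ := pushout.inl_desc _ _ _
  have h₂ : o₂ ≫ q = g₂ := pushout.inr_desc _ _ _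
  refine ⟨IsClosedImmersion.of_isPreimmersion _ ?_⟩
  rw [← isOpen_compl_iff, isOpen_iff_forall_mem_open]
  intro z hz
  have key : ∀ {A B T : Scheme.{u}} (a : A ⟶ (pushout i₁ i₂ : Scheme.{u})) (c : B ⟶ (pushout i₁ i₂ : Scheme.{u}))
      [IsOpenImmersion a] [IsOpenImmersion c] (ga : A ⟶ S) (gb : B ⟶ S) (ha : a ≫ q = ga) (hc : c ≫ q = gb)
      (l : T ⟶ pullback ga gb), (l ≫ pullback.fst ga gb) ≫ a = (l ≫ pullback.snd ga gb) ≫ c →
      (∀ {T' : Scheme.{u}} (u : T' ⟶ A) (v : T' ⟶ B), u ≫ a = v ≫ c →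
        ∃ k : T' ⟶ T, k ≫ l ≫ pullback.fst ga gb = u ∧ k ≫ l ≫ pullback.snd ga gb = v) →
      IsClosed (Set.range l) →
      pullback.fst q q z ∈ Set.range a → pullback.snd q q z ∈ Set.range c →
      ∃ O : Set ↥(pullback q q), O ⊆ (Set.range (pullback.diagonal q))ᶜ ∧ IsOpen O ∧ z ∈ O := by
    intro A B T a c _ _ ga gb ha hc l hl huniv hlc hza hzc
    set m := pullback.map ga gb q q a c (𝟙 S) (by rw [ha, Category.comp_id]) (by rw [hc, Category.comp_id])
    obtain ⟨w, rfl⟩ : z ∈ Set.range m := by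
      rw [Scheme.Pullback.range_map]
      exact ⟨hza, hzc⟩
    refine ⟨m '' (Set.range l)ᶜ, ?_, m.isOpenEmbedding.isOpenMap _ hlc.isOpen_compl, ⟨w, ?_, rfl⟩⟩
    · rintro _ ⟨x, hx, rfl⟩ h
      exact hx ((preimage_range_diagonal q a c ga gb ha hc l hl huniv).le h)
    · intro hw
      exact hz ((preimage_range_diagonal q a c ga gb ha hc l hl huniv).ge hw)
  rcases jointly_surjective i₁ i₂ (pullback.fst q q z) with hf | hf <;>
    rcases jointly_surjective i₁ i₂ (pullback.snd q q z) with hs | hs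
  · exact key o₁ o₁ g₁ g₁ h₁ h₁ (pullback.diagonal g₁) (by simp)
      (fun u v e => ⟨u, by simp, by simpa using (cancel_mono o₁).mp e⟩)
      (pullback.diagonal g₁).isClosedEmbedding.isClosed_range hf hs
  · exact key o₁ o₂ g₁ g₂ h₁ h₂ (pullback.lift i₁ i₂ hg) (by simp [o₁, o₂, pushout.condition])
      (fun u v e => by
        obtain ⟨k, hk₁, hk₂⟩ := exists_factor i₁ i₂ u v e
        exact ⟨k, by simpa using hk₁, by simpa using hk₂⟩)
      hcl hf hs
  · refine key o₂ o₁ g₂ g₁ h₂ h₁ (pullback.lift i₂ i₁ hg.symm) (by simp [o₁, o₂, pushout.condition])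
      (fun u v e => by
        obtain ⟨k, hk₁, hk₂⟩ := exists_factor i₁ i₂ v u e.symm
        exact ⟨k, by simpa using hk₂, by simpa using hk₁⟩) ?_ hf hs
    have : pullback.lift i₂ i₁ hg.symm = pullback.lift i₁ i₂ hg ≫ (pullbackSymmetry g₁ g₂).hom := by
      apply pullback.hom_ext <;> simp
    rw [this, Scheme.Hom.comp_base, TopCat.coe_comp, Set.range_comp]
    exact (pullbackSymmetry g₁ g₂).hom.homeomorph.isClosedMap _ hcl
  · exact key o₂ o₂ g₂ g₂ h₂ h₂ (pullback.diagonal g₂) (by simp)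
      (fun u v e => ⟨u, by simp, by simpa using (cancel_mono o₂).mp e⟩)
      (pullback.diagonal g₂).isClosedEmbedding.isClosed_range hf hs

include hg in
theorem quasiCompact_desc [QuasiCompact g₁] [QuasiCompact g₂] : QuasiCompact (pushout.desc g₁ g₂ hg) := by
  refine ⟨fun U hU hUc => ?_⟩
  set q := pushout.desc g₁ g₂ hg
  have : q ⁻¹' U = pushout.inl i₁ i₂ '' (g₁ ⁻¹' U) ∪ pushout.inr i₁ i₂ '' (g₂ ⁻¹' U) := by
    ext x
    constructor
    · intro hx
      rcases jointly_surjective i₁ i₂ x with ⟨y, rfl⟩ | ⟨y, rfl⟩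
      · refine Or.inl ⟨y, ?_, rfl⟩
        rw [Set.mem_preimage, ← pushout.inl_desc g₁ g₂ hg, Scheme.Hom.comp_apply]; exact hx
      · refine Or.inr ⟨y, ?_, rfl⟩
        rw [Set.mem_preimage, ← pushout.inr_desc g₁ g₂ hg, Scheme.Hom.comp_apply]; exact hx
    · rintro (⟨y, hy, rfl⟩ | ⟨y, hy, rfl⟩)
      · rw [Set.mem_preimage, ← Scheme.Hom.comp_apply, pushout.inl_desc]; exact hy
      · rw [Set.mem_preimage, ← Scheme.Hom.comp_apply, pushout.inr_desc]; exact hy
  rw [this]
  exact ((QuasiCompact.isCompact_preimage U hU hUc).image (pushout.inl i₁ i₂).continuous).union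
    ((QuasiCompact.isCompact_preimage U hU hUc).image (pushout.inr i₁ i₂).continuous)

include hg in
theorem locallyOfFiniteType_desc [LocallyOfFiniteType g₁] [LocallyOfFiniteType g₂] :
    LocallyOfFiniteType (pushout.desc g₁ g₂ hg) := by
  rw [IsZariskiLocalAtSource.iff_of_iSup_eq_top (P := @LocallyOfFiniteType)
    (U := fun b : Bool => cond b (pushout.inl i₁ i₂).opensRange (pushout.inr i₁ i₂).opensRange)
    (top_unique fun x _ => Opens.mem_iSup.2 ((jointly_surjective i₁ i₂ x).elim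
      (fun h => ⟨true, h⟩) (fun h => ⟨false, h⟩)))]
  rintro (_ | _)
  · show LocallyOfFiniteType ((pushout.inr i₁ i₂).opensRange.ι ≫ _)
    rw [← (pushout.inr i₁ i₂).isoOpensRange_inv_comp, Category.assoc, pushout.inr_desc]; infer_instance
  · show LocallyOfFiniteType ((pushout.inl i₁ i₂).opensRange.ι ≫ _)
    rw [← (pushout.inl i₁ i₂).isoOpensRange_inv_comp, Category.assoc, pushout.inl_desc]; infer_instance

end Groth.Agent.GlueSep17
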